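import Mathlib

/-!
# Flat unramified algebras of finite type are formally étale
-/

open TensorProduct

namespace Groth.Agent.Lib.Helper6.FlatUnram

/-- Nakayama for nilpotent ideals. -/
theorem eq_top_of_sup_smul_top_of_pow_eq_bot {A M : Type*} [CommRing A] [AddCommGroup M]
    [Module A M] (I : Ideal A) (n : ℕ) (hI : I ^ n = ⊥) (N : Submodule A M)
    (h : (⊤ : Submodule A M) ≤ N ⊔ I • ⊤) : N = ⊤ := by
  have step : ∀ k : ℕ, (⊤ : Submodule A M) ≤ N ⊔ I ^ k • ⊤ := by
    intro k
    induction k with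
    | zero =>
      rw [pow_zero, Ideal.one_eq_top, Submodule.top_smul]
      exact le_sup_right
    | succ k ih =>
      refine ih.trans (sup_le le_sup_left ?_)
      calc (I ^ k • ⊤ : Submodule A M) ≤ I ^ k • (N ⊔ I • ⊤) := Submodule.smul_mono le_rfl h
        _ = I ^ k • N ⊔ I ^ k • (I • ⊤) := Submodule.smul_sup _ _ _
        _ ≤ N ⊔ I ^ (k + 1) • ⊤ := by
          apply sup_le_sup Submodule.smul_le_right
          rw [← Submodule.mul_smul, ← pow_succ]
  have := step n
  rw [hI, Submodule.bot_smul, sup_bot_eq] at this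
  exact eq_top_iff.mpr this


/-- Lifting against a square-zero quotient of the base ring itself. -/
theorem exists_lift_of_flat_unramified {A B : Type*} [CommRing A] [CommRing B] [Algebra A B]
    [Module.Flat A B] [Algebra.FiniteType A B] [Algebra.FormallyUnramified A B]
    (I : Ideal A) (hI : I ^ 2 = ⊥) (π : B →ₐ[A] A ⧸ I) :
    ∃ l : B →ₐ[A] A, (Ideal.Quotient.mkₐ A I).comp l = π := by
  classical
  obtain ⟨t, ht1, ht2⟩ :=
    (Algebra.FormallyUnramified.iff_exists_tensorProduct (R := A) (S := B)).mp inferInstance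
  set IB : Ideal B := I.map (algebraMap A B) with hIB
  let q : A ⧸ I →ₐ[A] B ⧸ IB :=
    Ideal.quotientMapₐ IB (Algebra.ofId A B) (Ideal.le_comap_map)
  let φ₁ : B →ₐ[A] B ⧸ IB := q.comp π
  let φ₂ : B →ₐ[A] B ⧸ IB := Ideal.Quotient.mkₐ A IB
  let Φ : B ⊗[A] B →ₐ[A] B ⧸ IB :=
    Algebra.TensorProduct.lift φ₁ φ₂ (fun _ _ => Commute.all _ _)
  set e₀ : B ⧸ IB := Φ t with he₀
  have star : ∀ s : B, φ₂ s * e₀ = φ₁ s * e₀ := by
    intro s
    have h := congrArg Φ (ht1 s)
    rw [map_mul, map_sub, map_zero] at h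
    have h1 : Φ ((1 : B) ⊗ₜ[A] s) = φ₂ s := by simp [Φ]
    have h2 : Φ (s ⊗ₜ[A] (1 : B)) = φ₁ s := by simp [Φ]
    rw [h1, h2, sub_mul] at h
    exact sub_eq_zero.mp h
  have hπker : ∀ b ∈ IB, π b = 0 := by
    intro b hb
    have : IB ≤ RingHom.ker π.toRingHom := by
      rw [hIB, Ideal.map_le_iff_le_comap]
      intro a ha
      show π (algebraMap A B a) = 0
      rw [AlgHom.commutes, Ideal.Quotient.algebraMap_eq]
      exact Ideal.Quotient.eq_zero_iff_mem.mpr ha
    exact this hb
  let π₀ : B ⧸ IB →ₐ[A] A ⧸ I := Ideal.Quotient.liftₐ IB π hπker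
  have hπ₀mk : ∀ b : B, π₀ (Ideal.Quotient.mk IB b) = π b := fun b => rfl
  have hqmk : ∀ a : A, q (Ideal.Quotient.mk I a) = Ideal.Quotient.mk IB (algebraMap A B a) :=
    fun a => rfl
  have hπ₀q : ∀ x, π₀ (q x) = x := by
    intro x
    obtain ⟨a, rfl⟩ := Ideal.Quotient.mk_surjective x
    rw [hqmk, hπ₀mk, AlgHom.commutes, Ideal.Quotient.algebraMap_eq]
  have hπ₀Φ : ∀ z, π₀ (Φ z) = π (Algebra.TensorProduct.lmul' A z) := by
    intro z
    induction z using TensorProduct.induction_on with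
    | zero => simp
    | tmul x y =>
      have : Φ (x ⊗ₜ[A] y) = q (π x) * Ideal.Quotient.mk IB y := by simp [Φ, φ₁, φ₂]
      rw [this, map_mul, hπ₀q, hπ₀mk]
      simp
    | add x y hx hy => simp only [map_add, hx, hy]
  have hπ₀e₀ : π₀ e₀ = 1 := by rw [he₀, hπ₀Φ, ht2, map_one]
  obtain ⟨s₀, hs₀⟩ := Ideal.Quotient.mk_surjective e₀
  have hidem : IsIdempotentElem e₀ := by
    have h1 := star s₀
    have h2 : φ₂ s₀ = e₀ := hs₀
    have h3 : φ₁ s₀ = 1 := by
      show q (π s₀) = 1
      rw [← hπ₀mk, hs₀, hπ₀e₀, map_one]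
    rw [h2, h3, one_mul] at h1
    exact h1
  have hnil : ∀ x ∈ RingHom.ker (Ideal.Quotient.mk IB), IsNilpotent x := by
    intro x hx
    rw [Ideal.mk_ker] at hx
    refine ⟨2, ?_⟩
    have : x ^ 2 ∈ IB ^ 2 := Ideal.pow_mem_pow hx 2
    rw [hIB, ← Ideal.map_pow, hI, Ideal.map_bot] at this
    simpa using this
  obtain ⟨e, he, hee₀⟩ := exists_isIdempotentElem_eq_of_ker_isNilpotent (Ideal.Quotient.mk IB)
    hnil e₀ ((Ideal.Quotient.mk IB).range_eq_top_of_surjective Ideal.Quotient.mk_surjective ▸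
      Subring.mem_top _) hidem
  have hπe : π e = 1 := by rw [← hπ₀mk, hee₀, hπ₀e₀]
  set J : Ideal B := Ideal.span {1 - e} with hJ
  have hπJ : ∀ b ∈ J, π b = 0 := by
    intro b hb
    obtain ⟨c, rfl⟩ := Ideal.mem_span_singleton'.mp hb
    rw [map_mul, map_sub, map_one, hπe, sub_self, mul_zero]
  have hloc : IsLocalization.Away e (B ⧸ J) := IsLocalization.Away.quotient_of_isIdempotentElem he
  have hflatBC : Module.Flat B (B ⧸ J) := IsLocalization.flat (B ⧸ J) (Submonoid.powers e)
  have hflat : Module.Flat A (B ⧸ J) := Module.Flat.trans A B (B ⧸ J)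
  have hmke : Ideal.Quotient.mk J e = 1 := by
    have : Ideal.Quotient.mk J (1 - e) = 0 :=
      Ideal.Quotient.eq_zero_iff_mem.mpr (Ideal.subset_span rfl)
    rw [map_sub, map_one, sub_eq_zero] at this
    exact this.symm
  -- surjectivity
  have hsurj : Function.Surjective (algebraMap A (B ⧸ J)) := by
    have hN : LinearMap.range (Algebra.linearMap A (B ⧸ J)) = ⊤ := by
      apply eq_top_of_sup_smul_top_of_pow_eq_bot I 2 hI
      intro c _
      obtain ⟨b, rfl⟩ := Ideal.Quotient.mk_surjective c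
      obtain ⟨a, ha⟩ := Ideal.Quotient.mk_surjective (π b)
      have h1 := star b
      have h2 : φ₁ b = Ideal.Quotient.mk IB (algebraMap A B a) := by
        show q (π b) = _
        rw [← ha, hqmk]
      have h3 : (b - algebraMap A B a) * e ∈ IB := by
        rw [← Ideal.Quotient.eq_zero_iff_mem, map_mul, map_sub, sub_mul, sub_eq_zero]
        rw [h2, ← hee₀] at h1
        exact h1
      have h4 : Ideal.Quotient.mk J b - algebraMap A (B ⧸ J) a =
          Ideal.Quotient.mk J ((b - algebraMap A B a) * e) := by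
        rw [map_mul, hmke, mul_one, map_sub]
        rfl
      have h5 : Ideal.Quotient.mk J ((b - algebraMap A B a) * e) ∈
          (I • ⊤ : Submodule A (B ⧸ J)) := by
        rw [Ideal.smul_top_eq_map]
        show _ ∈ I.map (algebraMap A (B ⧸ J))
        have : algebraMap A (B ⧸ J) = (Ideal.Quotient.mk J).comp (algebraMap A B) := rfl
        rw [this, ← Ideal.map_map]
        exact Ideal.mem_map_of_mem _ h3
      have h6 : Ideal.Quotient.mk J b =
          algebraMap A (B ⧸ J) a + (Ideal.Quotient.mk J b - algebraMap A (B ⧸ J) a) := by ring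
      rw [h6]
      exact Submodule.add_mem_sup ⟨a, rfl⟩ (h4 ▸ h5)
    intro c
    have : c ∈ LinearMap.range (Algebra.linearMap A (B ⧸ J)) := hN ▸ Submodule.mem_top
    exact this
  -- the kernel lies in I
  have hkerI : ∀ a : A, algebraMap A (B ⧸ J) a = 0 → a ∈ I := by
    intro a ha
    have h1 : algebraMap A B a ∈ J := Ideal.Quotient.eq_zero_iff_mem.mp ha
    have h2 := hπJ _ h1
    rw [AlgHom.commutes, Ideal.Quotient.algebraMap_eq] at h2
    exact Ideal.Quotient.eq_zero_iff_mem.mp h2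
  -- faithful flatness
  have hff : Module.FaithfullyFlat A (B ⧸ J) := by
    refine ⟨fun m hm htop => ?_⟩
    have h1 : (1 : B ⧸ J) ∈ (m • ⊤ : Submodule A (B ⧸ J)) := by rw [htop]; exact Submodule.mem_top
    rw [Ideal.smul_top_eq_map] at h1
    have h1' : (1 : B ⧸ J) ∈ m.map (algebraMap A (B ⧸ J)) := h1
    rw [Ideal.mem_map_iff_of_surjective _ hsurj] at h1'
    obtain ⟨a, ham, ha1⟩ := h1'
    have h2 : 1 - a ∈ I := hkerI _ (by rw [map_sub, map_one, ha1, sub_self])
    have hIm : I ≤ m := by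
      have : I ^ 2 ≤ m := hI ▸ bot_le
      exact hm.isPrime.le_of_pow_le this
    have : (1 : A) ∈ m := by
      have := m.add_mem (hIm h2) ham
      simpa using this
    exact hm.ne_top ((Ideal.eq_top_iff_one m).mpr this)
  have hinj : Function.Injective (algebraMap A (B ⧸ J)) :=
    FaithfulSMul.algebraMap_injective A (B ⧸ J)
  let E : A ≃ₐ[A] (B ⧸ J) := AlgEquiv.ofBijective (Algebra.ofId A (B ⧸ J)) ⟨hinj, hsurj⟩
  refine ⟨E.symm.toAlgHom.comp (Ideal.Quotient.mkₐ A J), ?_⟩
  ext b
  set a : A := E.symm (Ideal.Quotient.mk J b) with ha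
  have h1 : algebraMap A (B ⧸ J) a = Ideal.Quotient.mk J b := E.apply_symm_apply _
  have h2 : b - algebraMap A B a ∈ J := by
    rw [← Ideal.Quotient.eq_zero_iff_mem, map_sub, sub_eq_zero, ← h1]
    rfl
  have h3 := hπJ _ h2
  rw [map_sub, AlgHom.commutes, sub_eq_zero] at h3
  show Ideal.Quotient.mk I a = π b
  rw [h3]
  rfl


universe u in
/-- A flat, formally unramified algebra of finite type is formally étale. -/
theorem formallyEtale_of_flat_of_formallyUnramified (R B : Type u) [CommRing R] [CommRing B]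
    [Algebra R B] [Module.Flat R B] [Algebra.FiniteType R B] [Algebra.FormallyUnramified R B] :
    Algebra.FormallyEtale R B := by
  rw [Algebra.FormallyEtale.iff_formallyUnramified_and_formallySmooth]
  refine ⟨inferInstance, Algebra.FormallySmooth.of_comp_surjective fun A' _ _ I hI π => ?_⟩
  -- base change to `A'`
  let π' : A' ⊗[R] B →ₐ[A'] A' ⧸ I :=
    Algebra.TensorProduct.lift (Algebra.ofId A' (A' ⧸ I)) π (fun _ _ => Commute.all _ _)
  obtain ⟨l', hl'⟩ := exists_lift_of_flat_unramified (A := A') (B := A' ⊗[R] B) I hI π'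
  refine ⟨(l'.restrictScalars R).comp Algebra.TensorProduct.includeRight, ?_⟩
  ext b
  have := congrArg (fun g => g ((1 : A') ⊗ₜ[R] b)) hl'
  simp only [AlgHom.comp_apply] at this
  simp only [AlgHom.comp_apply, AlgHom.restrictScalars_apply,
    Algebra.TensorProduct.includeRight_apply]
  have h2 : π' ((1 : A') ⊗ₜ[R] b) = π b := by simp [π']
  exact this.trans h2

end Groth.Agent.Lib.Helper6.FlatUnram
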